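import Mathlib
import Groth.Prelude.Def_W4c5quivmodgenus0Quiv

/-!
Reduction from the quiver with central plane to the quiver with two sinks.
-/

set_option autoImplicit false
set_option maxRecDepth 4000
set_option linter.unusedSectionVars false

universe u v

open PtQuiv Module

namespace Groth.Agent.PtQuivReduce

variable {K : Type u} [Field K] {κ : Type v} [Fintype κ] [DecidableEq κ] {a b : κ}
  {s : κ → (Fin 2 → K)} {θ : κ → ℚ}

open scoped Classical in
/-- The sum over everything splits. -/
theorem sum_rest (hab : a ≠ b) :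
    ∑ i : {i : κ // i ≠ a ∧ i ≠ b}, θ i.1 = ∑ i, θ i - θ a - θ b := by
  rw [← Finset.sum_subtype ((Finset.univ.erase a).erase b) (fun x => by simp [and_comm]) θ,
    Finset.sum_erase_eq_sub (by simp [hab.symm]), Finset.sum_erase_eq_sub (Finset.mem_univ a)]

/-- The two vectors are independent. -/
theorem li_of_semistable (h : QSemistable (-1) θ s) (hab : a ≠ b) (hθ : 1 < θ a + θ b) :
    LinearIndependent K ![s a, s b] := by
  by_contra hli
  let L : Submodule K (Fin 2 → K) := Submodule.span K (Set.range ![s a, s b])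
  have hsub : QSubrep s L {a, b} := by
    intro i hi
    rcases Finset.mem_insert.mp hi with rfl | hi
    · exact Submodule.subset_span ⟨0, rfl⟩
    · rw [Finset.mem_singleton] at hi; subst hi; exact Submodule.subset_span ⟨1, rfl⟩
  have hdim : finrank K L ≤ 1 := by
    rw [linearIndependent_iff_card_eq_finrank_span] at hli
    have := finrank_range_le_card ![s a, s b] (R := K)
    simp only [Fintype.card_fin] at hli this
    change (Set.range ![s a, s b]).finrank K ≤ 2 at this
    change (Set.range ![s a, s b]).finrank K ≤ 1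
    omega
  have := h.2 L {a, b} hsub
  rw [QWt, Finset.sum_pair hab] at this
  have : (finrank K L : ℚ) ≤ 1 := by exact_mod_cast hdim
  linarith

variable (t : {i : κ // i ≠ a ∧ i ≠ b} → (Fin 2 → K))

open scoped Classical in
/-- The subspace of the plane attached to subspaces at the two sinks. -/
noncomputable def toL (s : κ → (Fin 2 → K)) (a b : κ) (U : Fin 2 → Submodule K K) :
    Submodule K (Fin 2 → K) :=
  (if U 0 = ⊥ then ⊥ else Submodule.span K {s a}) ⊔ (if U 1 = ⊥ then ⊥ else Submodule.span K {s b})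

open scoped Classical in
/-- The kept indices. -/
noncomputable def toI (U : Fin 2 → Submodule K K) (I : Finset {i : κ // i ≠ a ∧ i ≠ b}) : Finset κ :=
  ((if U 0 = ⊥ then ∅ else {a}) ∪ (if U 1 = ⊥ then ∅ else {b})) ∪ I.map (Function.Embedding.subtype _)

theorem finrank_eq_zero_or_one (W : Submodule K K) :
    W = ⊥ ∧ finrank K W = 0 ∨ W ≠ ⊥ ∧ W = ⊤ ∧ finrank K W = 1 := by
  rcases eq_bot_or_eq_top W with h | h
  · left; exact ⟨h, by rw [h, finrank_bot]⟩
  · right; exact ⟨by rw [h]; exact top_ne_bot, h, by rw [h, finrank_top, finrank_self]⟩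

theorem qsubrep_to (ht : ∀ i, s i.1 = t i 0 • s a + t i 1 • s b) {U : Fin 2 → Submodule K K}
    {I : Finset {i : κ // i ≠ a ∧ i ≠ b}} (h : PSubrep t U I) : QSubrep s (toL s a b U) (toI U I) := by
  intro i hi
  simp only [toI, Finset.mem_union, Finset.mem_map, Function.Embedding.coe_subtype] at hi
  rcases hi with (hi | hi) | ⟨j, hj, rfl⟩
  · split_ifs at hi with h0
    · simp at hi
    · rw [Finset.mem_singleton] at hi; subst hi
      exact Submodule.mem_sup_left (by rw [if_neg h0]; exact Submodule.mem_span_singleton_self _)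
  · split_ifs at hi with h0
    · simp at hi
    · rw [Finset.mem_singleton] at hi; subst hi
      exact Submodule.mem_sup_right (by rw [if_neg h0]; exact Submodule.mem_span_singleton_self _)
  · rw [ht]
    refine Submodule.add_mem_sup ?_ ?_
    · split_ifs with h0
      · have := h j hj 0; rw [h0, Submodule.mem_bot] at this; simp [this]
      · exact Submodule.smul_mem _ _ (Submodule.mem_span_singleton_self _)
    · split_ifs with h0
      · have := h j hj 1; rw [h0, Submodule.mem_bot] at this; simp [this]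
      · exact Submodule.smul_mem _ _ (Submodule.mem_span_singleton_self _)

theorem finrank_toL (hli : LinearIndependent K ![s a, s b]) (U : Fin 2 → Submodule K K) :
    finrank K (toL s a b U) = finrank K (U 0) + finrank K (U 1) := by
  have ha : s a ≠ 0 := hli.ne_zero 0
  have hb : s b ≠ 0 := hli.ne_zero 1
  rcases finrank_eq_zero_or_one (U 0) with ⟨h0, e0⟩ | ⟨h0, -, e0⟩ <;>
    rcases finrank_eq_zero_or_one (U 1) with ⟨h1, e1⟩ | ⟨h1, -, e1⟩ <;> rw [e0, e1]
  · rw [toL, if_pos h0, if_pos h1, bot_sup_eq, finrank_bot]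
  · rw [toL, if_pos h0, if_neg h1, bot_sup_eq, finrank_span_singleton hb]
  · rw [toL, if_neg h0, if_pos h1, sup_bot_eq, finrank_span_singleton ha]
  · rw [toL, if_neg h0, if_neg h1, ← Submodule.span_union, Set.singleton_union,
      show ({s a, s b} : Set (Fin 2 → K)) = Set.range ![s a, s b] by simp [Set.pair_comm],
      finrank_span_eq_card hli, Fintype.card_fin]

theorem qwt_to (hab : a ≠ b) (hli : LinearIndependent K ![s a, s b]) (U : Fin 2 → Submodule K K)
    (I : Finset {i : κ // i ≠ a ∧ i ≠ b}) (c : ℚ) :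
    PWt K ![c * (θ a - 1), c * (θ b - 1)] (fun i : {i : κ // i ≠ a ∧ i ≠ b} => c * θ i.1) U I =
      c * QWt K (-1) θ (toL s a b U) (toI U I) := by
  have h0I : a ∉ I.map (Function.Embedding.subtype _) := by
    simp only [Finset.mem_map, Function.Embedding.coe_subtype, not_exists, not_and]
    exact fun x _ e => x.2.1 e
  have h1I : b ∉ I.map (Function.Embedding.subtype _) := by
    simp only [Finset.mem_map, Function.Embedding.coe_subtype, not_exists, not_and]
    exact fun x _ e => x.2.2 e
  rw [PWt, QWt, finrank_toL hli, toI, Fin.sum_univ_two, ← Finset.mul_sum]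
  rcases finrank_eq_zero_or_one (U 0) with ⟨h0, e0⟩ | ⟨h0, -, e0⟩ <;>
    rcases finrank_eq_zero_or_one (U 1) with ⟨h1, e1⟩ | ⟨h1, -, e1⟩ <;>
    simp [h0, h1, e0, e1, hab, h0I, h1I] <;> ring

theorem le_sum_total (h0 : ∀ i, 0 ≤ θ i) (I : Finset κ) : ∑ i ∈ I, θ i ≤ ∑ i, θ i :=
  Finset.sum_le_sum_of_subset_of_nonneg (Finset.subset_univ I) fun i _ _ => h0 i

open scoped Classical in
/-- Every subrepresentation is dominated by one coming from the sinks, or is harmless. -/
theorem dominate (hab : a ≠ b) (hli : LinearIndependent K ![s a, s b])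
    (ht : ∀ i, s i.1 = t i 0 • s a + t i 1 • s b) (h0 : ∀ i, 0 ≤ θ i) (h2 : ∑ i, θ i = 2)
    (hθ : 1 < θ a + θ b) (L : Submodule K (Fin 2 → K)) (I : Finset κ) (hI : QSubrep s L I) :
    (L = ⊤ ∧ QWt K (-1) θ L I ≤ 0) ∨ QWt K (-1) θ L I < 0 ∨
      ∃ (U : Fin 2 → Submodule K K) (J : Finset {i : κ // i ≠ a ∧ i ≠ b}), PSubrep t U J ∧
        toL s a b U = L ∧ I ⊆ toI U J ∧ U ≠ ⊤ ∧ (L ≠ ⊥ → U ≠ ⊥) ∧ (U = ⊥ → J = ∅ → I = ∅) := by
  by_cases htop : L = ⊤
  · left
    refine ⟨htop, ?_⟩
    rw [QWt, htop, finrank_top, finrank_fintype_fun_eq_card, Fintype.card_fin]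
    have := le_sum_total h0 I
    push_cast; linarith
  right
  have hlt : finrank K L ≤ 1 := by
    have := Submodule.finrank_lt (lt_top_iff_ne_top.mpr htop).ne
    rw [finrank_fintype_fun_eq_card, Fintype.card_fin] at this
    omega
  have hspan : Submodule.span K (Set.range ![s a, s b]) = ⊤ :=
    hli.span_eq_top_of_card_eq_finrank (by simp)
  have hnot : ¬ (s a ∈ L ∧ s b ∈ L) := fun ⟨x, y⟩ => htop (top_le_iff.mp (hspan ▸
    Submodule.span_le.mpr (by rintro _ ⟨i, rfl⟩; fin_cases i <;> assumption)))
  by_cases hline : L ≠ ⊥ ∧ s a ∉ L ∧ s b ∉ L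
  · left
    obtain ⟨hL, hna, hnb⟩ := hline
    have h1 : (finrank K L : ℚ) = 1 := by
      have : finrank K L ≠ 0 := fun h => hL (Submodule.finrank_eq_zero.mp h)
      have : finrank K L = 1 := by omega
      simp [this]
    have hsub : I ⊆ (Finset.univ.erase a).erase b := fun i hi => by
      simp only [Finset.mem_erase, Finset.mem_univ, and_true]
      exact ⟨fun e => hnb (e ▸ hI i hi), fun e => hna (e ▸ hI i hi)⟩
    have h3 : ∑ i ∈ I, θ i ≤ ∑ i ∈ (Finset.univ.erase a).erase b, θ i :=
      Finset.sum_le_sum_of_subset_of_nonneg hsub fun i _ _ => h0 i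
    rw [Finset.sum_erase_eq_sub (by simp [hab.symm]), Finset.sum_erase_eq_sub (Finset.mem_univ a)] at h3
    rw [QWt, h1]; linarith
  right
  let U : Fin 2 → Submodule K K := ![if s a ∈ L then ⊤ else ⊥, if s b ∈ L then ⊤ else ⊥]
  have htb : (⊤ : Submodule K K) ≠ ⊥ := top_ne_bot
  have hat : s a ∈ L → U 0 = ⊤ := fun h => if_pos h
  have han : s a ∉ L → U 0 = ⊥ := fun h => if_neg h
  have hbt : s b ∈ L → U 1 = ⊤ := fun h => if_pos h
  have hbn : s b ∉ L → U 1 = ⊥ := fun h => if_neg h
  have hne0 : s a ∈ L → U 0 ≠ ⊥ := fun h e => htb ((hat h).symm.trans e)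
  have hne1 : s b ∈ L → U 1 ≠ ⊥ := fun h e => htb ((hbt h).symm.trans e)
  have hbot : s a ∉ L → s b ∉ L → L = ⊥ := fun ha hb => by
    by_contra hne
    exact hline ⟨hne, ha, hb⟩
  have hL : toL s a b U = L := by
    by_cases ha : s a ∈ L
    · have hb : s b ∉ L := fun hb => hnot ⟨ha, hb⟩
      rw [toL, if_neg (hne0 ha), if_pos (hbn hb), sup_bot_eq]
      refine Submodule.eq_of_le_of_finrank_le ?_ ?_
      · rwa [Submodule.span_singleton_le_iff_mem]
      · rw [finrank_span_singleton (show s a ≠ 0 from hli.ne_zero 0)]; exact hlt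
    · by_cases hb : s b ∈ L
      · rw [toL, if_pos (han ha), if_neg (hne1 hb), bot_sup_eq]
        refine Submodule.eq_of_le_of_finrank_le ?_ ?_
        · rwa [Submodule.span_singleton_le_iff_mem]
        · rw [finrank_span_singleton (show s b ≠ 0 from hli.ne_zero 1)]; exact hlt
      · rw [toL, if_pos (han ha), if_pos (hbn hb), bot_sup_eq, hbot ha hb]
  refine ⟨U, I.subtype _, ?_, hL, ?_, ?_, ?_, ?_⟩
  · intro i hi j
    rw [Finset.mem_subtype] at hi
    have hm := hI _ hi
    rw [ht] at hm
    fin_cases j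
    · show t i 0 ∈ U 0
      by_cases ha : s a ∈ L
      · rw [hat ha]; exact Submodule.mem_top
      · rw [han ha, Submodule.mem_bot]
        by_cases hb : s b ∈ L
        · have h' : t i 0 • s a ∈ L := by
            have := L.sub_mem hm (L.smul_mem (t i 1) hb)
            rwa [add_sub_cancel_right] at this
          by_contra h
          exact ha ((L.smul_mem_iff h).mp h')
        · rw [hbot ha hb, Submodule.mem_bot] at hm
          exact (LinearIndependent.pair_iff.mp hli _ _ hm).1
    · show t i 1 ∈ U 1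
      by_cases hb : s b ∈ L
      · rw [hbt hb]; exact Submodule.mem_top
      · rw [hbn hb, Submodule.mem_bot]
        by_cases ha : s a ∈ L
        · have h' : t i 1 • s b ∈ L := by
            have := L.sub_mem hm (L.smul_mem (t i 0) ha)
            rwa [add_sub_cancel_left] at this
          by_contra h
          exact hb ((L.smul_mem_iff h).mp h')
        · rw [hbot ha hb, Submodule.mem_bot] at hm
          exact (LinearIndependent.pair_iff.mp hli _ _ hm).2
  · intro i hi
    simp only [toI, Finset.mem_union, Finset.mem_map, Function.Embedding.coe_subtype, Finset.mem_subtype]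
    by_cases ha : i = a
    · subst ha; left; left; rw [if_neg (hne0 (hI i hi))]; exact Finset.mem_singleton_self _
    by_cases hb : i = b
    · subst hb; left; right; rw [if_neg (hne1 (hI i hi))]; exact Finset.mem_singleton_self _
    exact Or.inr ⟨⟨i, ha, hb⟩, hi, rfl⟩
  · intro e
    refine hnot ⟨?_, ?_⟩
    · by_contra h
      exact htb ((congrFun e 0).symm.trans (han h))
    · by_contra h
      exact htb ((congrFun e 1).symm.trans (hbn h))
  · intro hne e
    by_cases ha : s a ∈ L
    · exact hne0 ha (congrFun e 0)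
    · by_cases hb : s b ∈ L
      · exact hne1 hb (congrFun e 1)
      · exact hline ⟨hne, ha, hb⟩
  · intro e hJ
    rw [Finset.eq_empty_iff_forall_notMem]
    intro i hi
    by_cases ha : i = a
    · subst ha; exact hne0 (hI i hi) (congrFun e 0)
    by_cases hb : i = b
    · subst hb; exact hne1 (hI i hi) (congrFun e 1)
    exact Finset.notMem_empty (⟨i, ha, hb⟩ : {i : κ // i ≠ a ∧ i ≠ b}) (hJ ▸ Finset.mem_subtype.mpr hi)

/-- Coordinates with respect to the two vectors. -/
theorem exists_coords (hli : LinearIndependent K ![s a, s b]) :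
    ∃ t : {i : κ // i ≠ a ∧ i ≠ b} → (Fin 2 → K), ∀ i, s i.1 = t i 0 • s a + t i 1 • s b := by
  have h : ∀ v : Fin 2 → K, ∃ c : Fin 2 → K, ∑ j, c j • ![s a, s b] j = v := fun v =>
    (Submodule.mem_span_range_iff_exists_fun K).mp (by
      rw [hli.span_eq_top_of_card_eq_finrank (by simp)]; trivial)
  choose c hc using h
  exact ⟨fun i => c (s i.1), fun i => by simpa [Fin.sum_univ_two] using (hc (s i.1)).symm⟩

end Groth.Agent.PtQuivReduce
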